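import Groth.Agent.RGLib.AmpleCartier
import Groth.Agent.ZRLim.System
import Groth.Agent.NagataLib.ExtendFree
import Groth.Agent.BlowUpX.Projective
import Groth.Agent.ProjX.TwistAmple
import Groth.Agent.ProjX.Proper

/-!
# Admissible blow-ups with an ample family of invertible modules
-/

universe u

open CategoryTheory AlgebraicGeometry TopologicalSpace
open Scheme (IdealSheafData)

set_option autoImplicit false
set_option linter.style.haveILetI false
set_option backward.isDefEq.respectTransparency false
set_option backward.isDefEq.respectTransparency.types false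

namespace Groth.Agent.AmpleFamX

variable {X : Scheme.{u}}

/-- With finitely many components, an affine open is contained in a dense affine open. -/
theorem exists_dense_affine_ge (hirr : (irreducibleComponents (X : Type u)).Finite) {A : X.Opens}
    (hA : IsAffineOpen A) :
    ∃ U : X.Opens, IsAffineOpen U ∧ A ≤ U ∧
      ∀ C (hC : C ∈ irreducibleComponents (X : Type u)), hC.1.genericPoint ∈ U := by
  classical
  haveI := hirr.to_subtype
  let η : irreducibleComponents (X : Type u) → X := fun C => C.2.1.genericPoint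
  have hη : ∀ C : irreducibleComponents (X : Type u), IsGenericPoint (η C) C.1 := fun C =>
    C.2.1.isGenericPoint_genericPoint (isClosed_of_mem_irreducibleComponents C.1 C.2)
  -- the points lying only on the component `C`
  let O : irreducibleComponents (X : Type u) → X.Opens := fun C =>
    ⟨(⋃ (D : irreducibleComponents (X : Type u)) (_ : D ≠ C), D.1)ᶜ,
      (isClosed_iUnion_of_finite fun D : irreducibleComponents (X : Type u) =>
        isClosed_iUnion_of_finite fun _ : D ≠ C =>
          isClosed_of_mem_irreducibleComponents D.1 D.2).isOpen_compl⟩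
  have hηO : ∀ C, η C ∈ O C := fun C h => by
    obtain ⟨D, hDC, hD⟩ := Set.mem_iUnion₂.1 h
    have hle : C.1 ⊆ D.1 :=
      ((hη C).mem_closed_set_iff (isClosed_of_mem_irreducibleComponents D.1 D.2)).1 hD
    exact hDC (Subtype.ext (le_antisymm (C.2.2 D.2.1 hle) hle))
  have hOC : ∀ C, ∀ z ∈ O C, z ∈ C.1 := fun C z hz => by
    have hmem := irreducibleComponent_mem_irreducibleComponents z
    by_contra h
    exact hz (Set.mem_iUnion₂.2 ⟨⟨_, hmem⟩, fun e => h (e ▸ mem_irreducibleComponent), mem_irreducibleComponent⟩)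
  have hdisj : ∀ C D, C ≠ D → ∀ z ∈ O C, z ∉ O D := fun C D hne z hz hz' =>
    hz (Set.mem_iUnion₂.2 ⟨D, hne.symm, hOC D z hz'⟩)
  choose V hV hηV hVO using fun C : irreducibleComponents (X : Type u) =>
    exists_isAffineOpen_mem_and_subset (x := η C) (U := O C) (hηO C)
  let σ := {C : irreducibleComponents (X : Type u) // η C ∉ A}
  let B : X.Opens := ⨆ C : σ, V C.1
  have hB : IsAffineOpen B := IsAffineOpen.iSup_of_disjoint (fun C : σ => hV C.1)
    fun C D hne => Opens.coe_disjoint.1 (Set.disjoint_left.2 fun z hz hz' =>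
      hdisj C.1 D.1 (fun e => hne (Subtype.ext e)) z (hVO _ hz) (hVO _ hz'))
  have hAB : Disjoint A B := Opens.coe_disjoint.1 (Set.disjoint_left.2 fun z hzA hzB => by
    obtain ⟨C, hzC⟩ := Opens.mem_iSup.1 hzB
    exact C.2 (((hη C.1).mem_open_set_iff A.2).2 ⟨z, hOC _ z (hVO _ hzC), hzA⟩))
  refine ⟨A ⊔ B, hA.sup_of_disjoint hB hAB, le_sup_left, fun C hC => ?_⟩
  by_cases h : η ⟨C, hC⟩ ∈ A
  · exact le_sup_left (b := B) h
  · exact le_sup_right (a := A) (Opens.mem_iSup.2 ⟨⟨⟨C, hC⟩, h⟩, hηV _⟩)

/-- A scheme with finitely many components has an admissible blow-up with an ample family. -/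
theorem exists_adm_blowUp [CompactSpace X] [QuasiSeparatedSpace X]
    (hirr : (irreducibleComponents (X : Type u)).Finite) :
    ∃ (U : X.Opens) (I : X.IdealSheafData) (X' : Scheme.{u}) (b : X' ⟶ X),
      IsCompact (U : Set X) ∧ Dense (U : Set X) ∧ BlowUp.IsAdmissibleFor U I ∧ BlowUp.IsBlowUp b I ∧
      MoreMor.HasAmpleFamily X' := by
  classical
  obtain ⟨S, hS⟩ := isCompact_univ.elim_finite_subcover
    (fun W : X.affineOpens => (W.1 : Set X)) (fun W => W.1.2) (fun x _ => by
      obtain ⟨W, hW, hxW, -⟩ := exists_isAffineOpen_mem_and_subset (x := x) (U := ⊤) trivial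
      exact Set.mem_iUnion.2 ⟨⟨W, hW⟩, hxW⟩)
  let ι := {W // W ∈ S}
  choose V hV hle hgen using fun W : ι => exists_dense_affine_ge hirr W.1.2
  have hadm : ∀ W : ι, Nonempty (ZRLim.Adm (V W)) := fun W => ZRLim.Adm.nonempty (hV W).isCompact
  let K : ∀ W : ι, ZRLim.Adm (V W) := fun W => (hadm W).some
  let U : X.Opens := ⟨⋂ W : ι, (V W : Set X), isOpen_iInter_of_finite fun W => (V W).2⟩
  have hgenU : ∀ C (hC : C ∈ irreducibleComponents (X : Type u)), hC.1.genericPoint ∈ U :=
    fun C hC => Set.mem_iInter.2 fun W => hgen W C hC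
  have hUc : IsCompact (U : Set X) := by
    have hind : ∀ T : Finset ι, IsCompact ((T.inf fun W => V W : X.Opens) : Set X) := by
      intro T
      induction T using Finset.induction with
      | empty => simpa using isCompact_univ
      | insert W T _ ih =>
        rw [Finset.inf_insert, Opens.coe_inf]
        exact QuasiSeparatedSpace.inter_isCompact _ _ (V W).2 (hV W).isCompact (T.inf fun W => V W).2 ih
    have e : (U : Set X) = ((Finset.univ.inf fun W => V W : X.Opens) : Set X) := by
      rw [Opens.coe_finset_inf]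
      simp [U, Finset.inf_eq_iInf]
    rw [e]; exact hind _
  have hUd : Dense (U : Set X) := fun x => by
    let hC := irreducibleComponent_mem_irreducibleComponents x
    have hg := hC.1.isGenericPoint_genericPoint (isClosed_of_mem_irreducibleComponents _ hC)
    exact closure_mono (Set.singleton_subset_iff.2 (hgenU _ hC))
      (hg.def.ge mem_irreducibleComponent)
  let I : X.IdealSheafData := ∏ W : ι, (K W).1
  have hIft : BlowUp.IsFiniteTypeIdeal I := by
    suffices ∀ T : Finset ι, BlowUp.IsFiniteTypeIdeal (∏ W ∈ T, (K W).1) from this Finset.univ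
    intro T
    induction T using Finset.induction with
    | empty => intro A; simpa using Ideal.fg_top _
    | insert W T hW ih =>
      intro A
      rw [Finset.prod_insert hW, IdealSheafData.ideal_mul, Pi.mul_apply]
      exact ((K W).2.1 A).mul (ih A)
  have hId : Disjoint (I.support : Set X) (U : Set X) :=
    NagataLib.ExtendFree.disjoint_support_prod _ _ _ fun W _ => by
      rw [(K W).2.2, Set.disjoint_left]
      exact fun x hx hxU => hx (Set.mem_iInter.1 hxU W)
  obtain ⟨X', b, hb⟩ := BlowUpLib.exists_blowUp (C := I)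
  have hproj : RelProj.IsProjective b := BlowUpX.isProjective_of_isBlowUp hb hIft
  haveI := ProjX.isProper_of_isProjective hproj
  obtain ⟨L, hL⟩ := ProjX.exists_isRelAmple_of_isProjective hproj
  refine ⟨U, I, X', b, hUc, hUd, ⟨hIft, hId⟩, hb, ?_⟩
  let e := Fintype.equivFin ι
  have hD : ∀ W : ι, BlowUp.IsEffCartierIdeal ((K W).1.comap b) := fun W =>
    NagataLib.ExtendFree.cartier_of_mem_prod Finset.univ (fun W => (K W).1) 1 b
      (by rw [one_mul]; exact hb.1) (Finset.mem_univ W)
  have hsupp : ∀ W : ι, ((K W).1.comap b).support.compl = b ⁻¹ᵁ (V W) := fun W => by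
    refine Opens.ext (Set.ext fun z => ?_)
    show z ∉ (((K W).1.comap b).support : Set X') ↔ b z ∈ (V W : Set X)
    rw [IdealSheafData.support_comap]
    show ¬ b z ∈ ((K W).1.support : Set X) ↔ _
    rw [(K W).2.2, Set.notMem_compl_iff]
  refine RGLib.AmpleFamily.hasAmpleFamily_of_cartier (fun i => (K (e.symm i)).1.comap b)
    (fun i => hD _) (Set.eq_empty_iff_forall_notMem.2 fun z hz => ?_) (fun _ => L)
    (fun _ => AmpleX.isInvertible_of_isRelAmple hL) fun i => ?_
  · obtain ⟨W, hW, hzW⟩ := Set.mem_iUnion₂.1 (hS (Set.mem_univ (b z)))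
    have h1 : z ∈ (((K (e.symm (e ⟨W, hW⟩))).1.comap b).support : Set X') := Set.mem_iInter.1 hz (e ⟨W, hW⟩)
    rw [Equiv.symm_apply_apply] at h1
    have h2 : z ∈ ((K ⟨W, hW⟩).1.comap b).support.compl := by
      rw [hsupp]; exact hle ⟨W, hW⟩ hzW
    exact h2 h1
  · rw [hsupp]
    exact hL.2 ⟨V (e.symm i), hV _⟩

end Groth.Agent.AmpleFamX
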