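import Groth.Agent.AmpleY.CoprodMod
import Groth.Agent.AmpleX.Sect
import Groth.Prelude.Def_MoreMor

/-!
# Ample families on disjoint unions
-/

universe u

open CategoryTheory CategoryTheory.Limits AlgebraicGeometry TopologicalSpace
open Groth.Agent.H23.PicMul

set_option autoImplicit false
set_option linter.style.haveILetI false
set_option backward.isDefEq.respectTransparency false
set_option backward.isDefEq.respectTransparency.types false

namespace Groth.Agent.AmpleFamX

open Groth.Agent Groth.Agent.AmpleX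

variable {A B P : Scheme.{u}}

theorem exists_affine_locus_of_disjoint (i : A ⟶ P) (i' : B ⟶ P) [IsOpenImmersion i] [IsOpenImmersion i']
    (hdisj : i.opensRange ⊓ i'.opensRange = ⊥) (hcov : i.opensRange ⊔ i'.opensRange = ⊤)
    (hA : MoreMor.HasAmpleFamily A) (a : A) :
    ∃ (L : P.Modules) (n : ℕ) (s : Coh.structureModule P ⟶ CohB1.tensorPow L n),
      PicF.IsInvertible L ∧ 1 ≤ n ∧ i a ∈ CohB1.genLocus (CohB1.tensorPow L n) s ∧
        IsAffineOpen (CohB1.genLocus (CohB1.tensorPow L n) s) := by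
  obtain ⟨L, n, s, hL, hn, has, hs⟩ := hA.2 a
  obtain ⟨M, ⟨e⟩, ⟨e'⟩⟩ := AmpleY.exists_module_of_disjoint i i' hdisj L (Coh.structureModule B)
  have hM : PicF.IsInvertible M := isInvertible_of_restrict_cover fun p => by
    rcases (hcov.ge (show p ∈ (⊤ : P.Opens) from trivial) : p ∈ i.opensRange ⊔ i'.opensRange) with hp | hp
    · exact ⟨A, i, inferInstance, hp, isInvertible_of_iso
        (((Scheme.Modules.restrictFunctorIsoPullback i).app M) ≪≫ e).symm hL⟩
    · exact ⟨B, i', inferInstance, hp, isInvertible_of_iso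
        (((Scheme.Modules.restrictFunctorIsoPullback i').app M) ≪≫ e').symm
        (InvX.isInvertible_structureModule (X := B))⟩
  obtain ⟨d, hd⟩ := exists_locus_cl
    (N := CohB1.tensorPow ((Scheme.Modules.pullback i).obj M) n)
    (show PicF.cl (CohB1.tensorPow L n) = _ by
      rw [cl_tensorPow, cl_tensorPow, cl_eq_iff.2 ⟨e⟩]) (InvX.one s)
  obtain ⟨b, hb⟩ := exists_push_section i d
  obtain ⟨b', hb'⟩ := exists_section_extend_zero (InvX.isInvertible_tensorPow hM n)
    (U := i ''ᵁ ⊤) (U' := i'.opensRange) (W' := ⊤) le_top le_top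
    (by rw [Scheme.Hom.image_top_eq_opensRange, hcov])
    (by rw [Scheme.Hom.image_top_eq_opensRange, hdisj]) b
  have hG : CohB1.genLocus (CohB1.tensorPow M n) (InvX.ofSect b') =
      i ''ᵁ CohB1.genLocus (CohB1.tensorPow L n) s := by
    rw [genLocus_eq_locus, InvX.one_ofSect, hb', hb, hd, ← genLocus_eq_locus]
  refine ⟨M, n, InvX.ofSect b', hM, hn, ?_, ?_⟩
  · rw [hG]; exact ⟨a, has, rfl⟩
  · rw [hG]; exact hs.image_of_isOpenImmersion i

theorem hasAmpleFamily_coprod (hA : MoreMor.HasAmpleFamily A) (hB : MoreMor.HasAmpleFamily B) :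
    MoreMor.HasAmpleFamily (A ⨿ B) := by
  have hc := isCompl_range_inl_inr A B
  have hd : (coprod.inl : A ⟶ A ⨿ B).opensRange ⊓ (coprod.inr : B ⟶ A ⨿ B).opensRange = ⊥ :=
    Opens.ext hc.disjoint.inter_eq
  have hu : (coprod.inl : A ⟶ A ⨿ B).opensRange ⊔ (coprod.inr : B ⟶ A ⨿ B).opensRange = ⊤ :=
    Opens.ext hc.codisjoint.eq_top
  haveI := hA.1
  haveI := hB.1
  refine ⟨⟨?_⟩, fun p => ?_⟩
  · have e : (Set.univ : Set (A ⨿ B : Scheme.{u})) =
        Set.range (coprod.inl : A ⟶ A ⨿ B) ∪ Set.range (coprod.inr : B ⟶ A ⨿ B) :=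
      hc.codisjoint.eq_top.symm
    rw [e]
    exact (isCompact_range (coprod.inl : A ⟶ A ⨿ B).continuous).union
      (isCompact_range (coprod.inr : B ⟶ A ⨿ B).continuous)
  · rcases (hu.ge (show p ∈ (⊤ : (A ⨿ B : Scheme.{u}).Opens) from trivial) :
      p ∈ (coprod.inl : A ⟶ A ⨿ B).opensRange ⊔ (coprod.inr : B ⟶ A ⨿ B).opensRange) with ⟨a, rfl⟩ | ⟨b, rfl⟩
    · exact exists_affine_locus_of_disjoint coprod.inl coprod.inr hd hu hA a
    · exact exists_affine_locus_of_disjoint coprod.inr coprod.inl ((inf_comm _ _).trans hd)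
        ((sup_comm _ _).trans hu) hB b

end Groth.Agent.AmpleFamX
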