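import Groth.Agent.AmpleFamX.AdmBlowUp
import Groth.Agent.AmpleFamX.Coprod
import Groth.Agent.S17880
import Groth.Agent.S7184
import Groth.Agent.GrpFieldLib.FibreClosure
import Groth.Agent.MorLib.ElemEtaleFinite

/-!
# Completely decomposed proper covers with an ample family
-/

universe u

open CategoryTheory CategoryTheory.Limits AlgebraicGeometry TopologicalSpace

set_option autoImplicit false
set_option linter.style.haveILetI false
set_option backward.isDefEq.respectTransparency false
set_option backward.isDefEq.respectTransparency.types false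

namespace Groth.Agent.AmpleFamX

theorem bijective_rfm_preimmersion {W X : Scheme.{u}} (j : W ⟶ X) [IsPreimmersion j] (ξ : W) :
    Function.Bijective (j.residueFieldMap ξ) := by
  refine ⟨RingHom.injective (j.residueFieldMap ξ).hom, fun z => ?_⟩
  obtain ⟨g, rfl⟩ := W.residue_surjective ξ z
  obtain ⟨g, rfl⟩ := j.stalkMap_surjective ξ g
  exact ⟨X.residue (j ξ) g, congrArg (fun m : X.presheaf.stalk (j ξ) ⟶ W.residueField ξ => m.hom g)
    (Scheme.residue_residueFieldMap j ξ)⟩

/-- The point over `x` given by a residue-field section has the residue field of `x`. -/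
theorem exists_point_of_lift {P X : Scheme.{u}} (p : P ⟶ X) (x : X)
    (ℓ : Spec (X.residueField x) ⟶ P) (hℓ : ℓ ≫ p = X.fromSpecResidueField x) :
    ∃ y : P, p y = x ∧ Function.Bijective (p.residueFieldMap y) := by
  let pt : Spec (X.residueField x) := IsLocalRing.closedPoint _
  refine ⟨ℓ pt, ?_, ?_⟩
  · rw [← Scheme.Hom.comp_apply, hℓ, Scheme.fromSpecResidueField_apply]
  · haveI : IsPreimmersion (ℓ ≫ p) := hℓ ▸ inferInstance
    have h := bijective_rfm_preimmersion (ℓ ≫ p) pt
    rw [Scheme.residueFieldMap_comp] at h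
    refine ⟨RingHom.injective (p.residueFieldMap (ℓ pt)).hom, fun a => ?_⟩
    obtain ⟨b, hb⟩ := h.2 ((ℓ.residueFieldMap pt) a)
    exact ⟨b, RingHom.injective (ℓ.residueFieldMap pt).hom hb⟩

/-- Noetherian schemes have completely decomposed proper covers with an ample family. -/
theorem exists_cover_noetherian {X : Scheme.{u}} [IsNoetherian X] (T : Closeds X) :
    ∃ (Y : Scheme.{u}) (f : Y ⟶ X), IsProper f ∧ MoreMor.HasAmpleFamily Y ∧
      ∀ x ∈ (T : Set X), ∃ y : Y, f y = x ∧ Function.Bijective (f.residueFieldMap y) := by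
  induction T using WellFoundedLT.induction with
  | _ T IH =>
  let I := Scheme.IdealSheafData.vanishingIdeal T
  let i := I.subschemeι
  haveI : IsLocallyNoetherian I.subscheme := LocallyOfFiniteType.isLocallyNoetherian i
  haveI : CompactSpace I.subscheme := QuasiCompact.compactSpace_of_compactSpace i
  haveI : IsNoetherian I.subscheme := { }
  have hi : Set.range i = (T : Set X) := by
    show Set.range I.subschemeι = _
    rw [Scheme.IdealSheafData.range_subschemeι]
    exact Scheme.IdealSheafData.coe_support_vanishingIdeal T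
  obtain ⟨U, J, Z, b, -, hUd, hJ, hb, hZ⟩ := exists_adm_blowUp (X := I.subscheme)
    NoetherianSpace.finite_irreducibleComponents
  haveI : IsProper b := BlowUpLib.isProper_of_isBlowUp _ hb hJ.1
  haveI : IsIso (b ∣_ U) := BlowUpLib.isIso_restrict hb U fun z hz =>
    Set.disjoint_right.1 hJ.2 hz
  let s : (U : Scheme.{u}) ⟶ Z := inv (b ∣_ U) ≫ (b ⁻¹ᵁ U).ι
  have hs : s ≫ b ≫ i = U.ι ≫ i := by
    simp only [s, Category.assoc, ← morphismRestrict_ι_assoc, IsIso.inv_hom_id_assoc]
  have hbU : ∀ x ∈ (T : Set X), (∃ u : I.subscheme, u ∈ U ∧ i u = x) →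
      ∃ y : Z, (b ≫ i) y = x ∧ Function.Bijective ((b ≫ i).residueFieldMap y) := by
    rintro _ - ⟨u, hu, rfl⟩
    refine ⟨s ⟨u, hu⟩, ?_, ?_⟩
    · rw [← Scheme.Hom.comp_apply, hs]; rfl
    · refine MorLib.EEF.bijective_rfm_of_comp s (b ≫ i) ⟨u, hu⟩ (bijective_rfm_preimmersion s _) ?_
      haveI : IsPreimmersion (s ≫ b ≫ i) := hs ▸ inferInstance
      exact bijective_rfm_preimmersion _ _
  by_cases hT : (T : Set X).Nonempty
  · let T' : Closeds X := ⟨i '' (U : Set I.subscheme)ᶜ, i.isClosedEmbedding.isClosedMap _ U.2.isClosed_compl⟩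
    have hlt : T' < T := by
      refine lt_of_le_of_ne ?_ fun e => ?_
      · rintro _ ⟨u, -, rfl⟩
        exact hi.le ⟨u, rfl⟩
      · obtain ⟨x, hx⟩ := hT
        obtain ⟨v, rfl⟩ := hi.ge hx
        obtain ⟨u, -, huU⟩ := dense_iff_inter_open.1 hUd Set.univ isOpen_univ ⟨v, trivial⟩
        obtain ⟨w, hw, hwu⟩ : i u ∈ (T' : Set X) := e ▸ hi.le ⟨u, rfl⟩
        exact hw (i.isClosedEmbedding.injective hwu ▸ huU)
    obtain ⟨Y, f, hf, hY, hcd⟩ := IH T' hlt
    haveI := hf
    have hp : IsProper (coprod.desc (b ≫ i) f) := by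
      rw [show coprod.desc (b ≫ i) f = coprod.map (b ≫ i) f ≫ coprod.desc (𝟙 X) (𝟙 X) by simp]
      haveI : IsProper (coprod.map (b ≫ i) f) :=
        IsZariskiLocalAtTarget.coprodMap (P := @IsProper) _ _ inferInstance inferInstance
      haveI : IsFinite (coprod.desc (𝟙 X) (𝟙 X)) := inferInstance
      exact MorphismProperty.comp_mem @IsProper _ _ inferInstance inferInstance
    refine ⟨Z ⨿ Y, coprod.desc (b ≫ i) f, hp, hasAmpleFamily_coprod hZ hY, fun x hx => ?_⟩
    by_cases hx' : ∃ u : I.subscheme, u ∈ U ∧ i u = x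
    · obtain ⟨y, hy, hyb⟩ := hbU x hx hx'
      refine ⟨(coprod.inl : Z ⟶ Z ⨿ Y) y, ?_, MorLib.EEF.bijective_rfm_of_comp _ _ y
        (bijective_rfm_preimmersion _ _) ?_⟩
      · rw [← Scheme.Hom.comp_apply, coprod.inl_desc]; exact hy
      · rw [coprod.inl_desc]; exact hyb
    · obtain ⟨u, rfl⟩ := hi.ge hx
      obtain ⟨y, hy, hyb⟩ := hcd (i u) ⟨u, fun hu => hx' ⟨u, hu, rfl⟩, rfl⟩
      refine ⟨(coprod.inr : Y ⟶ Z ⨿ Y) y, ?_, MorLib.EEF.bijective_rfm_of_comp _ _ y
        (bijective_rfm_preimmersion _ _) ?_⟩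
      · rw [← Scheme.Hom.comp_apply, coprod.inr_desc]; exact hy
      · rw [coprod.inr_desc]; exact hyb
  · exact ⟨Z, b ≫ i, inferInstance, hZ, fun x hx => absurd ⟨x, hx⟩ hT⟩

/-- Qcqs schemes have completely decomposed finitely presented proper covers with an ample family. -/
theorem exists_cover (X : Scheme.{u}) [CompactSpace X] [QuasiSeparatedSpace X] :
    ∃ (Y : Scheme.{u}) (f : Y ⟶ X), IsProper f ∧ LocallyOfFinitePresentation f ∧
      (∀ x : X, ∃ y : Y, f y = x ∧ Function.Bijective (f.residueFieldMap y)) ∧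
      MoreMor.HasAmpleFamily Y := by
  let S : Scheme.{u} := Spec (CommRingCat.of (ULift.{u} ℤ))
  obtain ⟨X₀, g, h, hg, hh, hq, -, -, -⟩ :=
    Groth.Agent.S17880.result (specULiftZIsTerminal.from X : X ⟶ S)
  haveI := hg
  haveI := hh
  haveI := hq
  haveI : IsNoetherianRing (ULift.{u} ℤ) := isNoetherianRing_of_ringEquiv ℤ ULift.ringEquiv.symm
  haveI : IsNoetherianRing (CommRingCat.of (ULift.{u} ℤ)) := ‹_›
  haveI : IsNoetherian S := inferInstance
  haveI : IsLocallyNoetherian X₀ := LocallyOfFiniteType.isLocallyNoetherian h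
  haveI : CompactSpace X₀ := QuasiCompact.compactSpace_of_compactSpace h
  haveI : IsNoetherian X₀ := { }
  obtain ⟨Y₀, f₀, hf₀, hY₀, hcd⟩ := exists_cover_noetherian (X := X₀) ⊤
  haveI := hf₀
  haveI : LocallyOfFinitePresentation f₀ := inferInstance
  refine ⟨pullback g f₀, pullback.fst g f₀, inferInstance, inferInstance, fun x => ?_,
    Groth.Agent.S7184.result (pullback.snd g f₀) (Or.inl (MorphismProperty.pullback_snd _ _ inferInstance)) hY₀⟩
  obtain ⟨y₀, hy₀, hbij⟩ := hcd (g x) trivial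
  obtain ⟨t, -, ht⟩ := GrpFieldLib.exists_lift_point f₀ y₀ hbij (k := X.residueField x)
    (X.fromSpecResidueField x ≫ g) (by
      exact (congrArg g (Scheme.fromSpecResidueField_apply x _)).trans hy₀.symm)
  exact exists_point_of_lift (pullback.fst g f₀) x
    (pullback.lift (X.fromSpecResidueField x) t ht.symm) (pullback.lift_fst _ _ _)

end Groth.Agent.AmpleFamX
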