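import Groth.Agent.AmpleFamX.AdmBlowUp
import Groth.Agent.S1687
import Groth.Agent.AmpleX.QuasiAffine

/-!
# Factorial schemes with affine diagonal have ample families
-/

universe u

open CategoryTheory AlgebraicGeometry TopologicalSpace

set_option autoImplicit false
set_option linter.style.haveILetI false
set_option backward.isDefEq.respectTransparency false
set_option backward.isDefEq.respectTransparency.types false

namespace Groth.Agent.AmpleFamX

theorem hasAmpleFamily_of_factorial {X : Scheme.{u}} [IsNoetherian X]
    (hΔ : ∀ V W : X.Opens, IsAffineOpen V → IsAffineOpen W → IsAffineOpen (V ⊓ W))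
    (hufd : ∀ x : X, IsDomain (X.presheaf.stalk x) ∧ UniqueFactorizationMonoid (X.presheaf.stalk x)) :
    MoreMor.HasAmpleFamily X := by
  classical
  have hirr : (irreducibleComponents (X : Type u)).Finite := NoetherianSpace.finite_irreducibleComponents
  obtain ⟨S, hS⟩ := isCompact_univ.elim_finite_subcover
    (fun W : X.affineOpens => (W.1 : Set X)) (fun W => W.1.2) (fun x _ => by
      obtain ⟨W, hW, hxW, -⟩ := exists_isAffineOpen_mem_and_subset (x := x) (U := ⊤) trivial
      exact Set.mem_iUnion.2 ⟨⟨W, hW⟩, hxW⟩)
  let ι := {W // W ∈ S}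
  choose V hV hle hgen using fun W : ι => exists_dense_affine_ge hirr W.1.2
  have hd : ∀ W : ι, Dense (V W : Set X) := fun W x => by
    let hC := irreducibleComponent_mem_irreducibleComponents x
    have hg := hC.1.isGenericPoint_genericPoint (isClosed_of_mem_irreducibleComponents _ hC)
    exact closure_mono (Set.singleton_subset_iff.2 (hgen W _ hC)) (hg.def.ge mem_irreducibleComponent)
  choose D hD hDs using fun W : ι =>
    Groth.Agent.S1687.result X hΔ (V W) (hV W) (hd W) fun x _ => hufd x
  have hsupp : ∀ W : ι, (D W).support.compl = V W := fun W => Opens.ext (by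
    show ((D W).support : Set X)ᶜ = _
    rw [hDs, compl_compl])
  let e := Fintype.equivFin ι
  refine RGLib.AmpleFamily.hasAmpleFamily_of_cartier (fun i => D (e.symm i)) (fun i => hD _)
    (Set.eq_empty_iff_forall_notMem.2 fun z hz => ?_) (fun _ => Coh.structureModule X)
    (fun _ => InvX.isInvertible_structureModule) fun i => ?_
  · obtain ⟨W, hW, hzW⟩ := Set.mem_iUnion₂.1 (hS (Set.mem_univ z))
    have h1 : z ∈ ((D (e.symm (e ⟨W, hW⟩))).support : Set X) := Set.mem_iInter.1 hz (e ⟨W, hW⟩)
    rw [Equiv.symm_apply_apply, hDs] at h1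
    exact h1 (hle ⟨W, hW⟩ hzW)
  · rw [hsupp]
    haveI : IsAffine (V (e.symm i) : Scheme.{u}) := hV _
    exact AmpleX.isAmple_of_isQuasiAffine
      (AmpleX.isInvertible_restrict _ InvX.isInvertible_structureModule)

end Groth.Agent.AmpleFamX
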